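import Groth.Agent.GIT36.Desc.QuasiSec
import Groth.Agent.S0593
import Mathlib

/-!
Affineness descends along universally open surjective morphisms locally of finite type over a
locally Noetherian base.
-/

set_option autoImplicit false
set_option backward.isDefEq.respectTransparency.types false

universe u

open CategoryTheory CategoryTheory.Limits AlgebraicGeometry

namespace Groth.Agent.GIT36.Desc

theorem isAffineHom_snd_snd {X Y Y' T U : Scheme.{u}} (f : X ⟶ Y) (g : Y' ⟶ Y) [IsAffineHom (pullback.snd f g)]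
    (τ : T ⟶ Y) (u : U ⟶ T) (w : U ⟶ Y') (h : u ≫ τ = w ≫ g) :
    IsAffineHom (pullback.snd (pullback.snd f τ) u) := by
  have h1 : IsAffineHom (pullback.snd (pullback.snd f g) w) :=
    MorphismProperty.pullback_snd (P := @IsAffineHom) _ _ inferInstance
  rw [← pullbackLeftPullbackSndIso_hom_snd f τ u]
  have h2 : IsAffineHom (pullback.snd f (u ≫ τ)) := by
    rw [h]
    rw [← pullbackLeftPullbackSndIso_inv_snd_snd f g w]
    infer_instance
  infer_instance

/-- Every point of the absolute integral closure of a Noetherian domain quotient has a neighbourhood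
mapping to a universally open cover. -/
theorem exists_local_lift {R : Type u} [CommRing R] [IsNoetherianRing R] (p : Ideal R) [hp : p.IsPrime]
    {Y' : Scheme.{u}} (g : Y' ⟶ Spec (CommRingCat.of R)) [LocallyOfFiniteType g] [UniversallyOpen g]
    [Surjective g]
    (q : Ideal (integralClosure (R ⧸ p) (AlgebraicClosure (FractionRing (R ⧸ p))))) [q.IsPrime] :
    ∃ r : integralClosure (R ⧸ p) (AlgebraicClosure (FractionRing (R ⧸ p))), r ∉ q ∧
      ∃ w : Spec (CommRingCat.of (Localization.Away r)) ⟶ Y',
        w ≫ g = Spec.map (CommRingCat.ofHom ((algebraMap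
          (integralClosure (R ⧸ p) (AlgebraicClosure (FractionRing (R ⧸ p)))) (Localization.Away r)).comp
            ((algebraMap (R ⧸ p) _).comp (Ideal.Quotient.mk p)))) := by
  obtain ⟨A', α, hfin, hα, H⟩ := exists_point (FractionRing (R ⧸ p))
    (L := AlgebraicClosure (FractionRing (R ⧸ p))) q
  have : IsNoetherianRing A' := IsNoetherianRing.of_finite (R ⧸ p) A'
  let ρ : R →+* A' := (algebraMap (R ⧸ p) A').comp (Ideal.Quotient.mk p)
  let τ : Spec (CommRingCat.of A') ⟶ Spec (CommRingCat.of R) := Spec.map (CommRingCat.ofHom ρ)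
  let g' := pullback.snd g τ
  have : Surjective g' := MorphismProperty.pullback_snd (P := @Surjective) _ _ inferInstance
  have : UniversallyOpen g' := MorphismProperty.pullback_snd (P := @UniversallyOpen) _ _ inferInstance
  obtain ⟨x₀, hx₀⟩ := g'.surjective ⟨q.comap α, inferInstance⟩
  obtain ⟨_, ⟨V, hV, rfl⟩, hx₀V, -⟩ := (pullback g τ).isBasis_affineOpens.exists_subset_of_mem_open
    (Set.mem_univ x₀) isOpen_univ
  replace hV : IsAffineOpen V := hV
  let fB : Spec Γ(pullback g τ, V) ⟶ Spec (CommRingCat.of A') := hV.fromSpec ≫ g'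
  let φ := Spec.preimage fB
  have hφ : Spec.map φ = fB := Spec.map_preimage fB
  let _ : Algebra A' Γ(pullback g τ, V) := φ.hom.toAlgebra
  have := hV.isOpenImmersion_fromSpec
  have hlft : LocallyOfFiniteType (Spec.map φ) := by rw [hφ]; infer_instance
  have : Algebra.FiniteType A' Γ(pullback g τ, V) :=
    (HasRingHomProperty.Spec_iff (P := @LocallyOfFiniteType)).1 hlft
  have hopen : IsOpenMap (Spec.map φ).base := by
    rw [hφ]
    exact g'.isOpenMap.comp hV.fromSpec.isOpenEmbedding.isOpenMap
  have : LocallyOfFinitePresentation (Spec.map φ) :=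
    E4O.locallyOfFinitePresentation_of_isLocallyNoetherian _
  have hlift : ∀ x : Ideal Γ(pullback g τ, V), x.IsPrime → x.under A' = q.comap α →
      ∀ p' : Ideal A', p'.IsPrime → p' ≤ q.comap α →
      ∃ x' : Ideal Γ(pullback g τ, V), x'.IsPrime ∧ x' ≤ x ∧ x'.under A' = p' := by
    intro x hx hxq p' hp' hle
    have ho : EGA43.IsOpenAt (Spec.map φ).base (⟨x, hx⟩ : PrimeSpectrum Γ(pullback g τ, V)) :=
      fun U hU => hopen.image_mem_nhds hU
    have hx' : (Spec.map φ).base (⟨x, hx⟩ : PrimeSpectrum Γ(pullback g τ, V)) =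
        (⟨q.comap α, inferInstance⟩ : PrimeSpectrum A') := PrimeSpectrum.ext hxq
    obtain ⟨x', hx'p, hsp⟩ := E4O.isOpenAt_iff_forall_exists_specializes.1 ho
      (⟨p', hp'⟩ : PrimeSpectrum A') (by rw [hx']; exact (PrimeSpectrum.le_iff_specializes _ _).1 hle)
    exact ⟨x'.asIdeal, x'.2, (PrimeSpectrum.le_iff_specializes x' ⟨x, hx⟩).2 hsp,
      congrArg PrimeSpectrum.asIdeal hx'p⟩
  have hne : ∃ x : Ideal Γ(pullback g τ, V), x.IsPrime ∧ x.under A' = q.comap α := by
    obtain ⟨z, hz⟩ := hV.range_fromSpec.ge hx₀V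
    have hzq : (Spec.map φ).base z = (⟨q.comap α, inferInstance⟩ : PrimeSpectrum A') := by
      rw [hφ]
      exact (congrArg g'.base hz).trans hx₀
    exact ⟨z.asIdeal, z.2, congrArg PrimeSpectrum.asIdeal hzq⟩
  obtain ⟨r, hr, ψ, hψ⟩ := H Γ(pullback g τ, V) hlift hne
  refine ⟨r, hr, Spec.map (CommRingCat.ofHom ψ) ≫ hV.fromSpec ≫ pullback.fst g τ, ?_⟩
  rw [Category.assoc, Category.assoc, pullback.condition, ← Category.assoc hV.fromSpec]
  change Spec.map (CommRingCat.ofHom ψ) ≫ fB ≫ τ = _
  rw [← hφ, ← Spec.map_comp, ← Spec.map_comp]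
  congr 1
  refine CommRingCat.hom_ext (RingHom.ext fun a => ?_)
  show ψ (φ.hom (ρ a)) = _
  rw [show φ.hom (ρ a) = algebraMap A' Γ(pullback g τ, V) (ρ a) from rfl, hψ]
  exact congrArg _ (hα _)

theorem mem_range_away {T : Type u} [CommRing T] (s : T) (t : PrimeSpectrum T) (hs : s ∉ t.asIdeal) :
    t ∈ Set.range (Spec.map (CommRingCat.ofHom (algebraMap T (Localization.Away s)))) := by
  obtain ⟨z, rfl⟩ : t ∈ Set.range (PrimeSpectrum.comap (algebraMap T (Localization.Away s))) := by
    rw [PrimeSpectrum.localization_away_comap_range (S := Localization.Away s) s]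
    exact hs
  exact ⟨z, rfl⟩

theorem isIntegral_pi {R : Type u} [CommRing R] {ι : Type u} [Fintype ι] (A : ι → Type u)
    [∀ p, CommRing (A p)] [∀ p, Algebra R (A p)] (hint : ∀ p, Algebra.IsIntegral R (A p)) :
    Algebra.IsIntegral R (∀ p, A p) := ⟨fun x => by
  choose f hf hf0 using fun p => (hint p).isIntegral (x p)
  refine ⟨∏ p, f p, Polynomial.monic_prod_of_monic _ _ fun p _ => hf p, ?_⟩
  rw [← Polynomial.aeval_def]
  refine funext fun p => ?_
  change Pi.evalAlgHom R A p (Polynomial.aeval x _) = 0
  rw [← Polynomial.aeval_algHom_apply, map_prod]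
  exact Finset.prod_eq_zero (Finset.mem_univ p) (hf0 p)⟩

theorem exists_lift_pi {R : Type u} [CommRing R] {ι : Type u} [Fintype ι] [DecidableEq ι]
    (A : ι → Type u) [∀ p, CommRing (A p)] [∀ p, Algebra R (A p)] {Y' : Scheme.{u}}
    (g : Y' ⟶ Spec (CommRingCat.of R))
    (H : ∀ p (q : Ideal (A p)), q.IsPrime → ∃ r : A p, r ∉ q ∧
      ∃ w : Spec (CommRingCat.of (Localization.Away r)) ⟶ Y',
        w ≫ g = Spec.map (CommRingCat.ofHom
          ((algebraMap (A p) (Localization.Away r)).comp (algebraMap R (A p)))))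
    (t : PrimeSpectrum (∀ p, A p)) :
    ∃ (U : Scheme.{u}) (v : U ⟶ Spec (CommRingCat.of (∀ p, A p))) (_ : IsOpenImmersion v) (w : U ⟶ Y'),
      t ∈ Set.range v ∧
        v ≫ Spec.map (CommRingCat.ofHom (algebraMap R (∀ p, A p))) = w ≫ g := by
  let T := ∀ p, A p
  let Q := t.asIdeal
  obtain ⟨p, hp⟩ : ∃ p : ι, Pi.single p (1 : A p) ∉ Q := by
    by_contra! hall
    refine t.2.ne_top ((Ideal.eq_top_iff_one _).2 ?_)
    rw [show (1 : T) = ∑ p, Pi.single p (1 : A p) from (Finset.univ_sum_single (1 : T)).symm]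
    exact Q.sum_mem fun p _ => hall p
  have hkerQ : RingHom.ker (Pi.evalRingHom A p) ≤ Q := fun x hx => by
    have h0 : Pi.single p (1 : A p) * x = 0 := by
      refine funext fun i => ?_
      by_cases hi : i = p
      · subst hi
        have hx' : x i = 0 := hx
        simp [hx']
      · simp [Pi.single_eq_of_ne hi]
    exact (t.2.mem_or_mem (by rw [h0]; exact Q.zero_mem)).resolve_left hp
  have hsurj : Function.Surjective (Pi.evalRingHom A p) := fun a => ⟨Pi.single p a, by simp⟩
  have hq : (Q.map (Pi.evalRingHom A p)).IsPrime := Ideal.map_isPrime_of_surjective hsurj hkerQ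
  have hqc : (Q.map (Pi.evalRingHom A p)).comap (Pi.evalRingHom A p) = Q := by
    rw [Ideal.comap_map_of_surjective _ hsurj, ← RingHom.ker_eq_comap_bot]
    exact sup_eq_left.2 hkerQ
  obtain ⟨r, hr, w, hw⟩ := H p (Q.map (Pi.evalRingHom A p)) hq
  let s : T := Pi.single p r
  have hs : s ∉ Q := fun h => hr (by
    have := Ideal.mem_map_of_mem (Pi.evalRingHom A p) h
    simpa [s] using this)
  let inj : A p →+* Localization.Away s :=
    { toFun := fun a => algebraMap T _ (Pi.single p a)
      map_one' := by
        have h1 : s * Pi.single p (1 : A p) = s := by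
          rw [← Pi.single_mul, mul_one]
        refine (IsLocalization.Away.algebraMap_isUnit (S := Localization.Away s) s).mul_left_cancel ?_
        rw [← map_mul, h1, mul_one]
      map_zero' := by rw [Pi.single_zero, map_zero]
      map_add' := fun a b => by rw [Pi.single_add, map_add]
      map_mul' := fun a b => by rw [Pi.single_mul, map_mul] }
  have hu : IsUnit (inj r) := IsLocalization.Away.algebraMap_isUnit (S := Localization.Away s) s
  have hcomp : (algebraMap T (Localization.Away s)).comp (algebraMap R T) =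
      (IsLocalization.Away.lift (S := Localization.Away r) r hu).comp
        ((algebraMap (A p) (Localization.Away r)).comp (algebraMap R (A p))) := by
    rw [← RingHom.comp_assoc, IsLocalization.Away.lift_comp]
    refine RingHom.ext fun a => ?_
    rw [RingHom.comp_apply, RingHom.comp_apply]
    refine (IsLocalization.Away.algebraMap_isUnit (S := Localization.Away s) s).mul_left_cancel ?_
    refine ((map_mul (algebraMap T (Localization.Away s)) s _).symm.trans ?_).trans
      (map_mul (algebraMap T (Localization.Away s)) s (Pi.single p (algebraMap R (A p) a)))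
    refine congrArg (algebraMap T (Localization.Away s)) (funext fun i => ?_)
    by_cases hi : i = p
    · subst hi
      show Pi.single i r i * algebraMap R (A i) a = Pi.single i r i * Pi.single i (algebraMap R (A i) a) i
      simp
    · show Pi.single p r i * algebraMap R (A i) a = Pi.single p r i * Pi.single p (algebraMap R (A p) a) i
      simp [Pi.single_eq_of_ne hi]
  refine ⟨Spec (CommRingCat.of (Localization.Away s)),
    Spec.map (CommRingCat.ofHom (algebraMap T (Localization.Away s))), inferInstance,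
    Spec.map (CommRingCat.ofHom (IsLocalization.Away.lift (S := Localization.Away r) r hu)) ≫ w, ?_, ?_⟩
  · exact mem_range_away s t hs
  · rw [Category.assoc, hw, ← Spec.map_comp, ← Spec.map_comp, ← CommRingCat.ofHom_comp,
      ← CommRingCat.ofHom_comp]
    exact congrArg (fun φ => Spec.map (CommRingCat.ofHom φ)) hcomp

set_option maxHeartbeats 1600000 in
set_option synthInstance.maxHeartbeats 200000 in
theorem isAffine_of_isAffineHom_baseChange {R : Type u} [CommRing R] [IsNoetherianRing R]
    {X Y' : Scheme.{u}} (f : X ⟶ Spec (CommRingCat.of R)) (g : Y' ⟶ Spec (CommRingCat.of R))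
    [LocallyOfFiniteType g] [UniversallyOpen g] [Surjective g] [IsAffineHom (pullback.snd f g)] :
    IsAffine X := by
  classical
  let P := {p : Ideal R // p ∈ minimalPrimes R}
  have : Finite P := (minimalPrimes.finite_of_isNoetherianRing R).to_subtype
  have hP : ∀ p : P, p.1.IsPrime := fun p => p.2.1.1
  let A : P → Type u := fun p =>
    integralClosure (R ⧸ p.1) (AlgebraicClosure (FractionRing (R ⧸ p.1)))
  let _ : ∀ p, Algebra R (A p) := fun p =>
    ((algebraMap (R ⧸ p.1) (A p)).comp (Ideal.Quotient.mk p.1)).toAlgebra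
  have hint : ∀ p, Algebra.IsIntegral R (A p) := fun p => ⟨fun x => by
    obtain ⟨f, hf, hf0⟩ := Algebra.IsIntegral.isIntegral (R := R ⧸ p.1) x
    obtain ⟨F, rfl, -, hFm⟩ := Polynomial.lifts_and_degree_eq_and_monic
      (Polynomial.map_surjective _ Ideal.Quotient.mk_surjective f) hf
    refine ⟨F, hFm, ?_⟩
    rwa [Polynomial.eval₂_map] at hf0⟩
  let T := ∀ p, A p
  have := Fintype.ofFinite P
  have : Algebra.IsIntegral R T := isIntegral_pi A hint
  let τ : Spec (CommRingCat.of T) ⟶ Spec (CommRingCat.of R) :=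
    Spec.map (CommRingCat.ofHom (algebraMap R T))
  have : IsIntegralHom τ := IsIntegralHom.SpecMap_iff.2 (algebraMap_isIntegral_iff.mpr ‹_›)
  have hsurjτ : Surjective τ := ⟨fun (y : PrimeSpectrum R) => by
    obtain ⟨p, hp, hpy⟩ := Ideal.exists_minimalPrimes_le (I := (⊥ : Ideal R)) (J := y.asIdeal) bot_le
    have hpP := hP ⟨p, hp⟩
    have hy : (y.asIdeal.map (Ideal.Quotient.mk p)).IsPrime :=
      Ideal.map_isPrime_of_surjective Ideal.Quotient.mk_surjective (Ideal.mk_ker.le.trans hpy)
    obtain ⟨Q, -, hQ, hQy⟩ := Ideal.exists_ideal_over_prime_of_isIntegral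
      (y.asIdeal.map (Ideal.Quotient.mk p)) (⊥ : Ideal (A ⟨p, hp⟩)) (by
        rw [← RingHom.ker_eq_comap_bot, (RingHom.injective_iff_ker_eq_bot _).1 (fun a b h => by
          have h' := congrArg Subtype.val h
          exact IsFractionRing.injective (R ⧸ p) (FractionRing (R ⧸ p))
            ((algebraMap (FractionRing (R ⧸ p)) (AlgebraicClosure (FractionRing (R ⧸ p)))).injective
              ((IsScalarTower.algebraMap_apply _ _ _ a).symm.trans
                (h'.trans (IsScalarTower.algebraMap_apply _ _ _ b)))))]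
        exact bot_le)
    refine ⟨⟨Q.comap (Pi.evalRingHom A ⟨p, hp⟩), inferInstance⟩, PrimeSpectrum.ext ?_⟩
    show (Q.comap (Pi.evalRingHom A ⟨p, hp⟩)).comap (algebraMap R T) = y.asIdeal
    rw [Ideal.comap_comap]
    show Q.comap ((algebraMap (R ⧸ p) (A ⟨p, hp⟩)).comp (Ideal.Quotient.mk p)) = _
    rw [← Ideal.comap_comap, show Q.comap (algebraMap (R ⧸ p) (A ⟨p, hp⟩)) = _ from hQy,
      Ideal.comap_map_of_surjective _ Ideal.Quotient.mk_surjective, ← RingHom.ker_eq_comap_bot,
      Ideal.mk_ker]
    exact sup_eq_left.2 hpy⟩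
  have key := exists_lift_pi A g fun p q hq => exists_local_lift p.1 (hp := hP p) g q
  choose U v hv w hmem hvw using key
  let 𝒰 : (Spec (CommRingCat.of T)).OpenCover :=
    { I₀ := ↥(Spec (CommRingCat.of T))
      X := U
      f := v
      mem₀ := by
        rw [Scheme.presieve₀_mem_precoverage_iff]
        exact ⟨fun x => ⟨x, hmem x⟩, hv⟩ }
  have hsnd : IsAffineHom (pullback.snd f τ) :=
    IsZariskiLocalAtTarget.of_openCover (P := @IsAffineHom) 𝒰 fun i =>
      isAffineHom_snd_snd f g τ (v i) (w i) (hvw i)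
  have : IsAffine (pullback f τ) := isAffine_of_isAffineHom (pullback.snd f τ)
  have : Surjective (pullback.fst f τ) := MorphismProperty.pullback_fst (P := @Surjective) _ _ inferInstance
  exact S0593.result _ X (pullback.fst f τ)

theorem isAffine_of_isAffineHom_baseChange' {R : CommRingCat.{u}} [IsLocallyNoetherian (Spec R)]
    {X Y' : Scheme.{u}} (f : X ⟶ Spec R) (g : Y' ⟶ Spec R)
    [LocallyOfFiniteType g] [UniversallyOpen g] [Surjective g] [IsAffineHom (pullback.snd f g)] :
    IsAffine X := by
  have : IsNoetherianRing R := isLocallyNoetherian_Spec.1 ‹_›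
  exact isAffine_of_isAffineHom_baseChange (R := R) f g

theorem isAffineHom_of_baseChange {X Y Y' : Scheme.{u}} [IsLocallyNoetherian Y] (f : X ⟶ Y)
    (g : Y' ⟶ Y) [LocallyOfFiniteType g] [UniversallyOpen g] [Surjective g]
    [IsAffineHom (pullback.snd f g)] : IsAffineHom f := by
  refine IsZariskiLocalAtTarget.of_openCover (P := @IsAffineHom) Y.affineCover fun i => ?_
  let u := Y.affineCover.f i
  show IsAffineHom (pullback.snd f u)
  let g₀ : pullback g u ⟶ Y.affineCover.X i := pullback.snd g u
  have haff : IsAffineHom (pullback.snd (pullback.snd f u) g₀) :=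
    isAffineHom_snd_snd f g u g₀ (pullback.fst g u) pullback.condition.symm
  have hlft : LocallyOfFiniteType g₀ := MorphismProperty.pullback_snd (P := @LocallyOfFiniteType) _ _ inferInstance
  have hs : Surjective g₀ := MorphismProperty.pullback_snd (P := @Surjective) _ _ inferInstance
  have huo : UniversallyOpen g₀ := MorphismProperty.pullback_snd (P := @UniversallyOpen) _ _ inferInstance
  have hN : IsLocallyNoetherian (Y.affineCover.X i) := LocallyOfFiniteType.isLocallyNoetherian u
  have : IsAffine (pullback f u) :=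
    @isAffine_of_isAffineHom_baseChange' _ hN _ _ (pullback.snd f u) g₀ hlft huo hs haff
  exact inferInstance

end Groth.Agent.GIT36.Desc
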