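import Groth.Agent.E4O.QuasiSection
import Groth.Agent.E4O.OpenDim
import Groth.Agent.E4O.UnibranchPoly
import Groth.Agent.SubSh14.Maximal
import Mathlib.FieldTheory.IsAlgClosed.AlgebraicClosure

/-!
Quasi-sections over the absolute integral closure: if `Spec B → Spec A` lifts generizations
(`A` a Noetherian domain), then near every prime of the integral closure of `A` in an algebraic
closure of its fraction field lying over the image, `B` has a point with values in that ring.
-/

set_option autoImplicit false

universe u

open CategoryTheory AlgebraicGeometry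

namespace Groth.Agent.GIT36.Desc

/-- The inclusion of integral closures. -/
noncomputable abbrev nu (A K L : Type u) [CommRing A] [Field K] [Field L] [Algebra A K] [Algebra A L]
    [Algebra K L] [IsScalarTower A K L] : integralClosure A K →+* integralClosure A L :=
  ((IsScalarTower.toAlgHom A K L).mapIntegralClosure).toRingHom

/-- An element outside `q'` has a conjugate outside `q`, for primes over the same prime of the
normalisation. -/
theorem exists_conj_notMem {A : Type u} [CommRing A] [IsDomain A] (K : Type u) [Field K] [Algebra A K]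
    [IsFractionRing A K] {L : Type u} [Field L] [IsAlgClosed L] [Algebra K L] [Algebra.IsAlgebraic K L]
    [Algebra A L] [IsScalarTower A K L] (q q' : Ideal (integralClosure A L)) [q.IsPrime] [q'.IsPrime]
    (h : q.comap (nu A K L) = q'.comap (nu A K L)) (d : integralClosure A L) (hd : d ∉ q') :
    ∃ σ : L →ₐ[K] L, (σ.restrictScalars A).mapIntegralClosure d ∉ q := by
  classical
  by_contra hcon
  push Not at hcon
  let S := integralClosure A K
  have : IsFractionRing S K := integralClosure.isFractionRing_of_finite_extension (A := A) K K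
  have : IsIntegrallyClosed S := by
    rw [isIntegrallyClosed_iff (R := S) (K := K)]
    intro x hx
    exact ⟨⟨x, isIntegral_trans (R := A) x hx⟩, rfl⟩
  have hdS : IsIntegral S (d : L) := d.2.tower_top
  let g : Polynomial S := minpoly S (d : L)
  have hg : g.Monic := minpoly.monic hdS
  let gA : Polynomial (integralClosure A L) := g.map (nu A K L)
  have hgmap : gA.map (integralClosure A L).val.toRingHom = (minpoly K (d : L)).map (algebraMap K L) := by
    rw [minpoly.isIntegrallyClosed_eq_field_fractions' K hdS, Polynomial.map_map, Polynomial.map_map]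
    rfl
  have hroot : ∀ a ∈ ((minpoly K (d : L)).map (algebraMap K L)).roots,
      ∃ x : integralClosure A L, x ∈ q ∧ (x : L) = a := by
    intro a ha
    have : a ∈ (minpoly K (d : L)).rootSet L := by
      rw [Polynomial.rootSet, Finset.mem_coe, Multiset.mem_toFinset]
      exact ha
    rw [← Algebra.IsAlgebraic.range_eval_eq_rootSet_minpoly L (d : L)] at this
    obtain ⟨σ, hσ⟩ := this
    exact ⟨(σ.restrictScalars A).mapIntegralClosure d, hcon σ, hσ⟩
  choose x hxq hxa using hroot
  let f := (minpoly K (d : L)).map (algebraMap K L)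
  let M : Multiset (integralClosure A L) := f.roots.attach.map fun a => x a.1 a.2
  have hM : M.map (fun z : integralClosure A L => (z : L)) = f.roots := by
    rw [Multiset.map_map]
    conv_rhs => rw [← Multiset.attach_map_val f.roots]
    exact Multiset.map_congr rfl fun a _ => hxa a.1 a.2
  have hgA : gA = (M.map (Polynomial.X - Polynomial.C ·)).prod := by
    apply Polynomial.map_injective (integralClosure A L).val.toRingHom Subtype.val_injective
    rw [hgmap, Polynomial.map_multiset_prod, Multiset.map_map]
    have hfm : f.Monic := (minpoly.monic (Algebra.IsAlgebraic.isAlgebraic (R := K) (d : L)).isIntegral).map _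
    show f = _
    conv_lhs => rw [(IsAlgClosed.splits f).eq_prod_roots_of_monic hfm, ← hM]
    rw [Multiset.map_map]
    refine congrArg Multiset.prod (Multiset.map_congr rfl fun z _ => ?_)
    simp
  let π := Ideal.Quotient.mk q
  have hq : gA.map π = Polynomial.X ^ Multiset.card M := by
    rw [hgA, Polynomial.map_multiset_prod, Multiset.map_map]
    rw [Multiset.map_congr rfl (g := fun _ => Polynomial.X) (fun z hz => ?_), Multiset.map_const',
      Multiset.prod_replicate]
    obtain ⟨a, -, rfl⟩ := Multiset.mem_map.1 hz
    simp [π, Ideal.Quotient.eq_zero_iff_mem.2 (hxq a.1 a.2)]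
  let n := Multiset.card M
  have hcoeff : ∀ i, i ≠ n → g.coeff i ∈ q'.comap (nu A K L) := fun i hi => by
    rw [← h, Ideal.mem_comap, ← Ideal.Quotient.eq_zero_iff_mem]
    have := congrArg (fun p => Polynomial.coeff p i) hq
    simp only [gA, Polynomial.coeff_map, Polynomial.coeff_X_pow] at this
    rwa [if_neg (show i ≠ Multiset.card M from hi)] at this
  have hq' : gA.map (Ideal.Quotient.mk q') = Polynomial.X ^ n := by
    have hdeg : gA.natDegree = n := by
      rw [hgA]
      exact Polynomial.natDegree_multiset_prod_X_sub_C_eq_card M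
    refine Polynomial.ext fun i => ?_
    rw [Polynomial.coeff_map, Polynomial.coeff_X_pow]
    by_cases hi : i = n
    · rw [if_pos hi, hi, ← hdeg, Polynomial.Monic.coeff_natDegree (hg.map _), map_one]
    · rw [if_neg hi, Polynomial.coeff_map]
      exact Ideal.Quotient.eq_zero_iff_mem.2 (hcoeff i hi)
  have h0 : gA.eval d = 0 := by
    apply Subtype.val_injective
    have := minpoly.aeval S (d : L)
    rw [Polynomial.aeval_def] at this
    show (integralClosure A L).val.toRingHom (gA.eval d) = 0
    rw [← Polynomial.eval₂_at_apply, Polynomial.eval₂_map]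
    exact this
  apply hd
  rw [← Ideal.Quotient.eq_zero_iff_mem]
  have := congrArg (fun p => Polynomial.eval (Ideal.Quotient.mk q' d) p) hq'
  simp only [Polynomial.eval_pow, Polynomial.eval_X, Polynomial.eval_map, Polynomial.eval₂_at_apply,
    h0, map_zero] at this
  exact eq_zero_of_pow_eq_zero this.symm

/-- There is a finite birational extension over which the prime has one point in the normalisation. -/
theorem finite_primes_normalisation {A : Type u} [CommRing A] [IsDomain A] [IsNoetherianRing A]
    (K : Type u) [Field K] [Algebra A K] [IsFractionRing A K] (m : Ideal A) [m.IsPrime] :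
    {n : Ideal (integralClosure A K) | n.IsPrime ∧ n.under A = m}.Finite := by
  let S := integralClosure A K
  let M := Algebra.algebraMapSubmonoid S m.primeCompl
  let E := Localization.AtPrime m
  let C := Localization M
  have hinjS : Function.Injective (algebraMap A S) := fun a b h =>
    IsFractionRing.injective A K (congrArg Subtype.val h)
  have hM : M ≤ nonZeroDivisors S := by
    rintro _ ⟨a, ha, rfl⟩
    exact mem_nonZeroDivisors_of_ne_zero fun h0 =>
      ha (by rw [hinjS (h0.trans (map_zero _).symm)]; exact m.zero_mem)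
  have : IsDomain C := IsLocalization.isDomain_localization hM
  let _ : Algebra E C := localizationAlgebra m.primeCompl S
  have : IsScalarTower A E C :=
    IsScalarTower.of_algebraMap_eq fun a => by
      rw [IsScalarTower.algebraMap_apply A S C a]
      exact (IsLocalization.map_eq (S := E) (Q := C) (M := m.primeCompl)
        (T := Algebra.algebraMapSubmonoid S m.primeCompl) (g := algebraMap A S)
        (fun x hx => ⟨x, hx, rfl⟩) a).symm
  have : Algebra.IsIntegral E C :=
    ⟨fun z => isIntegral_localization (M := m.primeCompl) (S := S) (Rₘ := E) (Sₘ := C) z⟩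
  have hAC : Function.Injective (algebraMap A C) := by
    rw [IsScalarTower.algebraMap_eq A S C]
    exact (IsLocalization.injective C hM).comp hinjS
  have hinjE : Function.Injective (algebraMap E C) := by
    refine (injective_iff_map_eq_zero _).2 fun z hz => ?_
    obtain ⟨a, s, rfl⟩ := IsLocalization.exists_mk'_eq m.primeCompl z
    have h1 : algebraMap A C a = 0 := by
      rw [IsScalarTower.algebraMap_apply A E C, ← IsLocalization.mk'_spec E a s, map_mul, hz, zero_mul]
    rw [hAC (h1.trans (map_zero _).symm), IsLocalization.mk'_zero]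
  have hm0 : m.primeCompl ≤ nonZeroDivisors A := fun x hx =>
    mem_nonZeroDivisors_of_ne_zero fun h0 => hx (by rw [h0]; exact m.zero_mem)
  have : IsDomain E := IsLocalization.isDomain_localization hm0
  have hfin := SubSh14.finite_maximal_of_birational E C hinjE (fun b => ?_) fun t ht => ?_
  · refine Set.Finite.of_finite_image (f := fun n : Ideal S => n.map (algebraMap S C))
      (hfin.subset ?_) ?_
    · rintro _ ⟨n, ⟨hn, hnm⟩, rfl⟩
      have hdisj : Disjoint (M : Set S) n := Set.disjoint_left.2 fun y hy hyn => by
        obtain ⟨a, ha, rfl⟩ := hy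
        exact ha (hnm.le hyn)
      have hnC : (n.map (algebraMap S C)).IsPrime :=
        IsLocalization.isPrime_of_isPrime_disjoint M C n hn hdisj
      have hover : (n.map (algebraMap S C)).comap (algebraMap E C) = IsLocalRing.maximalIdeal E := by
        have hA : ((n.map (algebraMap S C)).comap (algebraMap E C)).comap (algebraMap A E) = m := by
          rw [Ideal.comap_comap, ← IsScalarTower.algebraMap_eq, IsScalarTower.algebraMap_eq A S C,
            ← Ideal.comap_comap, show (n.map (algebraMap S C)).comap (algebraMap S C) = n from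
              IsLocalization.under_map_of_isPrime_disjoint M C hn hdisj]
          exact hnm
        rw [← IsLocalization.map_under m.primeCompl E ((n.map (algebraMap S C)).comap (algebraMap E C))]
        simp only [Ideal.under, hA]
        exact IsLocalization.AtPrime.map_eq_maximalIdeal m E
      exact Ideal.isMaximal_of_isIntegral_of_isMaximal_comap (R := E) _
        (by rw [hover]; exact IsLocalRing.maximalIdeal.isMaximal E)
    · rintro n₁ ⟨hn₁, h₁⟩ n₂ ⟨hn₂, h₂⟩ he
      have hdisj : ∀ n : Ideal S, n.IsPrime → n.under A = m → Disjoint (M : Set S) n := fun n _ hnm =>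
        Set.disjoint_left.2 fun y hy hyn => by
          obtain ⟨a, ha, rfl⟩ := hy
          exact ha (hnm.le hyn)
      rw [← IsLocalization.under_map_of_isPrime_disjoint M C hn₁ (hdisj n₁ hn₁ h₁),
        ← IsLocalization.under_map_of_isPrime_disjoint M C hn₂ (hdisj n₂ hn₂ h₂)]
      exact congrArg (fun I : Ideal C => I.under S) he
  · obtain ⟨y, ⟨_, s, hs, rfl⟩, rfl⟩ := IsLocalization.exists_mk'_eq M b
    obtain ⟨⟨e, t⟩, het⟩ := IsLocalization.surj (nonZeroDivisors A) (y : K)
    have hy : y * algebraMap A S t = algebraMap A S e := Subtype.ext het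
    refine ⟨algebraMap A E (t * s), ?_, algebraMap A E e, ?_⟩
    · refine mem_nonZeroDivisors_of_ne_zero fun h0 => ?_
      have := IsLocalization.injective E hm0 (h0.trans (map_zero _).symm)
      rcases mul_eq_zero.1 this with h | h
      · exact nonZeroDivisors.ne_zero t.2 h
      · exact hs (by rw [h]; exact m.zero_mem)
    · rw [algebraMap_smul, Algebra.smul_def, ← IsScalarTower.algebraMap_apply A E C,
        IsScalarTower.algebraMap_apply A S C, IsScalarTower.algebraMap_apply A S C e, ← hy, map_mul,
        map_mul, map_mul]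
      rw [mul_assoc, mul_comm (algebraMap S C (algebraMap A S s)),
        IsLocalization.mk'_spec (M := M) C y ⟨_, s, hs, rfl⟩]
      ring
  · intro a b hab
    simp only [Algebra.smul_def] at hab
    exact mul_left_cancel₀ (fun h0 => nonZeroDivisors.ne_zero ht
      (hinjE (h0.trans (map_zero _).symm))) hab

/-- An integral domain over the normalisation embeds in the absolute integral closure. -/
theorem exists_embed {A : Type u} [CommRing A] [IsDomain A] (K : Type u) [Field K] [Algebra A K]
    {L : Type u} [Field L] [IsAlgClosed L] [Algebra K L]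
    [Algebra A L] [IsScalarTower A K L] {W : Type u} [CommRing W] [IsDomain W]
    (ψ : integralClosure A K →+* W) (hψi : ψ.IsIntegral) (hψ : Function.Injective ψ) :
    ∃ θ' : W →+* integralClosure A L, θ'.comp ψ = nu A K L ∧
      ∀ Qw : Ideal W, Qw.IsPrime → ∃ q' : Ideal (integralClosure A L), q'.IsPrime ∧ q'.comap θ' = Qw := by
  let S := integralClosure A K
  let _ : Algebra S W := ψ.toAlgebra
  have : Algebra.IsIntegral S W := ⟨hψi⟩
  have : FaithfulSMul S W := (faithfulSMul_iff_algebraMap_injective _ _).2 hψ
  have : FaithfulSMul S L := (faithfulSMul_iff_algebraMap_injective _ _).2 fun a b h =>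
    Subtype.ext ((algebraMap K L).injective h)
  let θ : W →ₐ[S] L := IsAlgClosed.lift
  let θ' : W →+* integralClosure A L := θ.toRingHom.codRestrict (integralClosure A L).toSubring fun w =>
    isIntegral_trans (R := A) (A := S) _ ((Algebra.IsIntegral.isIntegral (R := S) w).map θ)
  have hθψ : θ'.comp ψ = nu A K L := RingHom.ext fun s => Subtype.ext (θ.commutes s)
  have hθinj : Function.Injective θ'.toFun := by
    change Function.Injective θ'
    rw [RingHom.injective_iff_ker_eq_bot]
    refine Ideal.eq_bot_of_comap_eq_bot (R := S) ?_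
    rw [RingHom.comap_ker]
    refine (RingHom.injective_iff_ker_eq_bot _).1 fun a b h => ?_
    rw [RingHom.algebraMap_toAlgebra, hθψ] at h
    exact Subtype.ext ((algebraMap K L).injective (congrArg Subtype.val h))
  let _ : Algebra W (integralClosure A L) := θ'.toAlgebra
  have : Algebra.IsIntegral W (integralClosure A L) := ⟨fun y => by
    refine (Algebra.IsIntegral.isIntegral (R := A) y).map_of_comp_eq
      (ψ.comp (algebraMap A S)) (RingHom.id _) ?_
    rw [RingHom.algebraMap_toAlgebra, ← RingHom.comp_assoc, hθψ]
    exact RingHom.ext fun a => Subtype.ext (IsScalarTower.algebraMap_apply A K L a).symm⟩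
  refine ⟨θ', hθψ, fun Qw _ => ?_⟩
  obtain ⟨q', -, hq', hq'w⟩ := Ideal.exists_ideal_over_prime_of_isIntegral (R := W) Qw
    (⊥ : Ideal (integralClosure A L)) (by
      rw [← RingHom.ker_eq_comap_bot, RingHom.algebraMap_toAlgebra,
        (RingHom.injective_iff_ker_eq_bot θ').1 hθinj]
      exact bot_le)
  exact ⟨q', hq', hq'w⟩

set_option maxHeartbeats 1600000 in
set_option synthInstance.maxHeartbeats 100000 in
/-- The ring form of quasi-sections over the absolute integral closure, at a prime with one point in
the normalisation below it. -/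
theorem exists_point_of_unique {A : Type u} [CommRing A] [IsDomain A] [IsNoetherianRing A]
    (K : Type u) [Field K] [Algebra A K] [IsFractionRing A K] {L : Type u} [Field L] [IsAlgClosed L]
    [Algebra K L] [Algebra.IsAlgebraic K L] [Algebra A L] [IsScalarTower A K L]
    (q : Ideal (integralClosure A L)) [q.IsPrime]
    (huniq : ∀ n : Ideal (integralClosure A K), n.IsPrime → n.under A = q.under A →
      n = q.comap (nu A K L))
    (B : Type u) [CommRing B] [Algebra A B] [Algebra.FiniteType A B]
    (hlift : ∀ x : Ideal B, x.IsPrime → x.under A = q.under A → ∀ p' : Ideal A, p'.IsPrime →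
      p' ≤ q.under A → ∃ x' : Ideal B, x'.IsPrime ∧ x' ≤ x ∧ x'.under A = p')
    (hne : ∃ x : Ideal B, x.IsPrime ∧ x.under A = q.under A) :
    ∃ r : integralClosure A L, r ∉ q ∧ Nonempty (B →ₐ[A] Localization.Away r) := by
  classical
  let m := q.under A
  have hm : m.IsPrime := inferInstance
  have : IsNoetherianRing B := Algebra.FiniteType.isNoetherianRing A B
  obtain ⟨P, ⟨hP, hPm⟩, hPmax⟩ : ∃ P : Ideal B, (P.IsPrime ∧ P.under A = m) ∧
      ∀ J : Ideal B, (J.IsPrime ∧ J.under A = m) → ¬ P < J :=
    set_has_maximal_iff_noetherian.2 (inferInstance : IsNoetherian B B)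
      {x : Ideal B | x.IsPrime ∧ x.under A = m} hne
  have hPlo : Ideal.LiesOver P m := ⟨hPm.symm⟩
  -- the degree of points in the fibre
  let f₀ : Spec (CommRingCat.of B) ⟶ Spec (CommRingCat.of A) :=
    Spec.map (CommRingCat.ofHom (algebraMap A B))
  have : LocallyOfFiniteType f₀ := by
    rw [HasRingHomProperty.Spec_iff (P := @LocallyOfFiniteType)]
    exact RingHom.finiteType_algebraMap.2 ‹_›
  let C₀ : E4O.Chart f₀ := { A := A, B := B, e := 𝟙 _, j := 𝟙 _, comm := by simp [f₀] }
  let S₀ : Set ℕ := C₀.deg '' {w : PrimeSpectrum B | w.asIdeal ≤ P ∧ w.asIdeal.under A = m}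
  obtain ⟨M₀, hM₀⟩ := C₀.bddAbove_deg
  have hS₀ : BddAbove S₀ := ⟨M₀, by rintro _ ⟨w, -, rfl⟩; exact hM₀ w⟩
  obtain ⟨z, ⟨hzP, hzm⟩, hze⟩ := Nat.sSup_mem (s := S₀) ⟨_, ⟨P, hP⟩, ⟨le_rfl, hPm⟩, rfl⟩ hS₀
  let e := sSup S₀
  have hzu : z.asIdeal.under A = q.under A := hzm
  obtain ⟨r₀, hr₀, hr₀z, hr₀A, hd⟩ := E4O.exists_trdeg_ge_of_lifts z.asIdeal (⊥ : Ideal A) bot_le
    fun p' hp' hle => hlift z.asIdeal z.2 hzu p' hp' (hle.trans hzu.le)
  replace hd : e ≤ Cardinal.toNat (Algebra.trdeg (A ⧸ r₀.under A) (B ⧸ r₀)) := hze.symm.le.trans hd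
  -- equations of the point in its fibre
  obtain ⟨ι, _, t, hcard, htP, huniqP⟩ := E4O.exists_cut_fibre m P
    (fun r hr hrm hle => (eq_of_le_of_not_lt hle fun hlt => hPmax r ⟨hr, hrm⟩ hlt).symm) e
    fun l hl => by
      have hfib : ∀ w : {w : PrimeSpectrum B //
          PrimeSpectrum.comap (algebraMap A B) w = ⟨m, hm⟩}, w.1.asIdeal.under A = m := fun w =>
        congrArg PrimeSpectrum.asIdeal w.2
      have hlen : ∀ k (hk : k < l.length + 1), k + C₀.deg (l ⟨k, hk⟩).1 ≤ C₀.deg l.head.1 := by
        intro k
        induction k with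
        | zero => intro hk; simp [RelSeries.head]
        | succ k ih =>
          intro hk
          have h1 := ih (by omega)
          have hab : l ⟨k, by omega⟩ < l ⟨k + 1, hk⟩ := l.strictMono
            (show (⟨k, by omega⟩ : Fin (l.length + 1)) < ⟨k + 1, hk⟩ from Nat.lt_succ_self k)
          have h2 : C₀.deg (l ⟨k + 1, hk⟩).1 < C₀.deg (l ⟨k, by omega⟩).1 := by
            rw [C₀.deg_eq_fdeg, C₀.deg_eq_fdeg]
            refine E4O.fdeg_lt ((C₀.specializes_iff _ _).2 hab.le) ?_ fun h' =>
              hab.ne (Subtype.ext (C₀.isOpenEmbedding_pt.injective h'))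
            rw [C₀.apply, C₀.apply, (l ⟨k, by omega⟩).2, (l ⟨k + 1, hk⟩).2]
          omega
      have h1 := hlen l.length (Nat.lt_succ_self _)
      have h2 : C₀.deg l.head.1 ≤ e := le_csSup hS₀
        ⟨l.head.1, ⟨(show l.head.1.asIdeal ≤ l.last.1.asIdeal from l.head_le_last).trans hl.le,
          hfib _⟩, rfl⟩
      omega
  -- the integral scheme through the point
  let C := B ⧸ r₀
  let π : B →ₐ[A] C := Ideal.Quotient.mkₐ A r₀
  have hπ : Function.Surjective π := Ideal.Quotient.mk_surjective
  let Q := P.map π.toRingHom
  have hr₀P : r₀ ≤ P := hr₀z.trans hzP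
  have hker : RingHom.ker π.toRingHom ≤ P := (le_of_eq Ideal.mk_ker).trans hr₀P
  have hQ : Q.IsPrime := Ideal.map_isPrime_of_surjective hπ hker
  have hQc : Q.comap π.toRingHom = P := by
    rw [Ideal.comap_map_of_surjective π.toRingHom hπ, ← RingHom.ker_eq_comap_bot]
    exact sup_eq_left.2 hker
  have hQm : Q.under A = m := by
    rw [Ideal.under_def, ← π.comp_algebraMap, ← Ideal.comap_comap]
    exact (congrArg (Ideal.comap (algebraMap A B)) hQc).trans hPm
  have hAC : Function.Injective (algebraMap A C) := by
    refine (injective_iff_map_eq_zero _).2 fun a ha => ?_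
    have : a ∈ r₀.under A := Ideal.mem_comap.2
      ((Ideal.Quotient.eq_zero_iff_mem (I := r₀) (a := algebraMap A B a)).1 ha)
    rwa [hr₀A, Ideal.mem_bot] at this
  have : FaithfulSMul A C := (faithfulSMul_iff_algebraMap_injective _ _).2 hAC
  have : Algebra.FiniteType A C := Algebra.FiniteType.of_surjective π hπ
  let T : MvPolynomial ι A →ₐ[A] C := MvPolynomial.aeval (π ∘ t)
  algebraize [T.toRingHom]
  have : IsScalarTower A (MvPolynomial ι A) C :=
    IsScalarTower.of_algebraMap_eq fun a => (T.commutes a).symm
  have : Algebra.FiniteType (MvPolynomial ι A) C := .of_restrictScalars_finiteType A _ _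
  have hqf : Algebra.QuasiFiniteAt (MvPolynomial ι A) Q := by
    refine E4O.quasiFiniteAt_of_forall_comparable Q fun r hr hrQ hc => ?_
    have h1 : r.comap π.toRingHom = P := by
      refine huniqP _ (hr.comap _) ?_ (fun i => ?_) ?_
      · rw [Ideal.under_def, Ideal.comap_comap]
        show r.comap (π.toRingHom.comp (algebraMap A B)) = m
        rw [show π.toRingHom.comp (algebraMap A B) =
          (algebraMap (MvPolynomial ι A) C).comp (algebraMap A (MvPolynomial ι A)) from
            π.comp_algebraMap.trans (IsScalarTower.algebraMap_eq A (MvPolynomial ι A) C),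
          ← Ideal.comap_comap]
        refine (congrArg (Ideal.comap (algebraMap A (MvPolynomial ι A))) hrQ).trans ?_
        rw [Ideal.under_def, Ideal.comap_comap, ← IsScalarTower.algebraMap_eq]
        exact hQm
      · have : MvPolynomial.X i ∈ r.under (MvPolynomial ι A) := by
          rw [hrQ]
          show T (MvPolynomial.X i) ∈ Q
          rw [MvPolynomial.aeval_X]
          exact Ideal.mem_map_of_mem _ (htP i)
        have h' : T (MvPolynomial.X i) ∈ r := this
        rw [MvPolynomial.aeval_X] at h'
        exact h'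
      · rcases hc with h | h
        · exact Or.inl (hQc.ge.trans (Ideal.comap_mono h))
        · exact Or.inr ((Ideal.comap_mono h).trans hQc.le)
    refine Ideal.comap_injective_of_surjective π.toRingHom hπ ?_
    rw [h1, hQc]
  have halg : Algebra.IsAlgebraic (Algebra.adjoin A (Set.range (π ∘ t))) C :=
    E4O.isAlgebraic_adjoin_of_quasiFiniteAt (π ∘ t) rfl Q
  have htr : Cardinal.mk ι ≤ Algebra.trdeg A C := by
    refine hcard.trans ((Nat.cast_le.2 hd).trans ?_)
    have : r₀.LiesOver (r₀.under A) := ⟨rfl⟩
    rw [Cardinal.cast_toNat_of_lt_aleph0 (E4O.trdeg_quotient_lt_aleph0 A B _ _)]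
    refine E4O.trdeg_le_of_ringEquiv ((Ideal.quotEquivOfEq hr₀A).trans (RingEquiv.quotientBot A))
      (RingEquiv.refl C) ?_
    refine RingHom.ext fun a => ?_
    obtain ⟨a, rfl⟩ := Ideal.Quotient.mk_surjective a
    rfl
  have hTinj : Function.Injective T :=
    (Algebra.IsAlgebraic.isTranscendenceBasis_of_le_trdeg_of_finite A (π ∘ t) htr).1
  obtain ⟨S', hS', s₀, hs₀Q, hbij⟩ :=
    Algebra.QuasiFiniteAt.exists_fg_and_exists_notMem_and_awayMap_bijective
      (R := MvPolynomial ι A) Q
  have : Module.Finite (MvPolynomial ι A) S' := ⟨(Submodule.fg_top _).mpr hS'⟩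
  let F := FractionRing C
  let D := integralClosure (MvPolynomial ι A) F
  let jS : S' →+* D := ((algebraMap C F).comp S'.val.toRingHom).codRestrict D.toSubring fun y =>
    (Algebra.IsIntegral.isIntegral (R := MvPolynomial ι A) y).map
      ((IsScalarTower.toAlgHom (MvPolynomial ι A) C F).comp S'.val)
  -- polynomials over the normalisation
  let S := integralClosure A K
  have hAF : Function.Injective (algebraMap A F) := by
    rw [IsScalarTower.algebraMap_eq A C F]
    exact (IsFractionRing.injective C F).comp hAC
  let κ : K →+* F := IsFractionRing.lift hAF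
  have hκ : ∀ a, κ (algebraMap A K a) = algebraMap A F a := fun a => IsFractionRing.lift_algebraMap _ a
  let ν : MvPolynomial ι S →+* D := MvPolynomial.eval₂Hom
    ((κ.comp S.val.toRingHom).codRestrict D.toSubring fun s =>
      IsIntegral.tower_top (R := A) (IsIntegral.map (R := A)
        ({ κ with commutes' := hκ } : K →ₐ[A] F) s.2))
    fun i => ⟨algebraMap C F (π (t i)), by
      have : algebraMap C F (π (t i)) = algebraMap (MvPolynomial ι A) F (MvPolynomial.X i) := by
        rw [IsScalarTower.algebraMap_apply (MvPolynomial ι A) C F]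
        exact congrArg (algebraMap C F) (MvPolynomial.aeval_X (π ∘ t) i).symm
      rw [this]
      exact isIntegral_algebraMap⟩
  have hmapν : ∀ p : MvPolynomial ι A,
      ν (MvPolynomial.map (algebraMap A S) p) = algebraMap (MvPolynomial ι A) D p := by
    refine fun p => congrArg (fun φ : MvPolynomial ι A →+* D => φ p)
      (MvPolynomial.ringHom_ext (f := ν.comp (MvPolynomial.map (algebraMap A S))) (fun a => ?_) fun i => ?_)
    · rw [RingHom.comp_apply, MvPolynomial.map_C, MvPolynomial.eval₂Hom_C]
      refine Subtype.ext ((hκ a).trans ?_)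
      exact IsScalarTower.algebraMap_apply A (MvPolynomial ι A) F a
    · rw [RingHom.comp_apply, MvPolynomial.map_X, MvPolynomial.eval₂Hom_X']
      refine Subtype.ext ?_
      show algebraMap C F (π (t i)) = _
      rw [show ((algebraMap (MvPolynomial ι A) D (MvPolynomial.X i) : D) : F) =
        algebraMap C F (algebraMap (MvPolynomial ι A) C (MvPolynomial.X i)) from
          IsScalarTower.algebraMap_apply (MvPolynomial ι A) C F _]
      exact congrArg (algebraMap C F) (MvPolynomial.aeval_X (π ∘ t) i).symm
  let _ : Algebra (MvPolynomial ι S) D := ν.toAlgebra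
  have : Algebra.IsIntegral (MvPolynomial ι S) D := ⟨fun y => by
    refine (Algebra.IsIntegral.isIntegral (R := MvPolynomial ι A) y).map_of_comp_eq
      (MvPolynomial.map (algebraMap A S)) (RingHom.id D) ?_
    exact RingHom.ext hmapν⟩
  have hνinj : Function.Injective ν := by
    let _ : Algebra (MvPolynomial ι A) (MvPolynomial ι S) := (MvPolynomial.map (algebraMap A S)).toAlgebra
    have : Algebra.IsIntegral (MvPolynomial ι A) (MvPolynomial ι S) := ⟨fun p => by
      induction p using MvPolynomial.induction_on with
      | C s =>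
        refine (Algebra.IsIntegral.isIntegral (R := A) s).map_of_comp_eq MvPolynomial.C
          (MvPolynomial.C : S →+* MvPolynomial ι S) ?_
        exact RingHom.ext fun a => MvPolynomial.map_C _ a
      | add p p' hp hp' => exact hp.add hp'
      | mul_X p i hp =>
        refine hp.mul ?_
        rw [show (MvPolynomial.X i : MvPolynomial ι S) = algebraMap (MvPolynomial ι A) (MvPolynomial ι S)
          (MvPolynomial.X i) from (MvPolynomial.map_X _ i).symm]
        exact isIntegral_algebraMap⟩
    rw [RingHom.injective_iff_ker_eq_bot]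
    refine Ideal.eq_bot_of_comap_eq_bot (R := MvPolynomial ι A) ?_
    rw [RingHom.comap_ker]
    refine (RingHom.injective_iff_ker_eq_bot _).1 fun a b h => ?_
    simp only [RingHom.comp_apply, RingHom.algebraMap_toAlgebra, hmapν] at h
    refine hTinj (IsFractionRing.injective C F ?_)
    exact ((IsScalarTower.algebraMap_apply (MvPolynomial ι A) C F a).symm.trans
      (congrArg Subtype.val h)).trans (IsScalarTower.algebraMap_apply (MvPolynomial ι A) C F b)
  have : FaithfulSMul (MvPolynomial ι S) D := (faithfulSMul_iff_algebraMap_injective _ _).2 hνinj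
  have : IsFractionRing S K := integralClosure.isFractionRing_of_finite_extension (A := A) K K
  have hSn : IsIntegrallyClosed S := by
    rw [isIntegrallyClosed_iff (R := S) (K := K)]
    intro x hx
    exact ⟨⟨x, isIntegral_trans (R := A) x hx⟩, rfl⟩
  have : IsIntegrallyClosed (MvPolynomial ι S) := E4O.isIntegrallyClosed_mvPolynomial S ι
  have : Algebra.HasGoingDown (MvPolynomial ι S) D := inferInstance
  -- the point and its generization over the zero section
  let _ : Algebra S' D := jS.toAlgebra
  have hjScomp : jS.comp (algebraMap (MvPolynomial ι A) S') = algebraMap (MvPolynomial ι A) D :=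
    RingHom.ext fun p => Subtype.ext
      (IsScalarTower.algebraMap_apply (MvPolynomial ι A) C F p).symm
  have : Algebra.IsIntegral S' D := ⟨fun y => by
    refine (Algebra.IsIntegral.isIntegral (R := MvPolynomial ι A) y).map_of_comp_eq
      (algebraMap (MvPolynomial ι A) S') (RingHom.id D) ?_
    exact hjScomp⟩
  have hjS : Function.Injective jS := fun a b h =>
    Subtype.ext (IsFractionRing.injective C F (congrArg Subtype.val h))
  let n := Q.comap S'.val.toRingHom
  obtain ⟨Qd, -, hQd, hQdn⟩ := Ideal.exists_ideal_over_prime_of_isIntegral (R := S') n (⊥ : Ideal D)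
    (by rw [← RingHom.ker_eq_comap_bot, RingHom.algebraMap_toAlgebra,
      (RingHom.injective_iff_ker_eq_bot _).1 hjS]; exact bot_le)
  have hQdA : Qd.comap (algebraMap (MvPolynomial ι A) D) = Q.comap T.toRingHom := by
    rw [← hjScomp, ← Ideal.comap_comap, show Qd.comap jS = n from hQdn, Ideal.comap_comap]
    rfl
  let N := Qd.comap ν
  have hNC : N.comap (MvPolynomial.C : S →+* MvPolynomial ι S) = q.comap (nu A K L) := by
    refine huniq _ inferInstance ?_
    rw [Ideal.under_def, Ideal.comap_comap, Ideal.comap_comap]
    rw [show ν.comp ((MvPolynomial.C : S →+* MvPolynomial ι S).comp (algebraMap A S)) =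
      (algebraMap (MvPolynomial ι A) D).comp MvPolynomial.C from RingHom.ext fun a => by
        rw [RingHom.comp_apply, RingHom.comp_apply, RingHom.comp_apply, ← hmapν, MvPolynomial.map_C],
      ← Ideal.comap_comap, hQdA, Ideal.comap_comap]
    rw [show T.toRingHom.comp MvPolynomial.C = algebraMap A C from T.comp_algebraMap]
    exact hQm
  let N₀ : Ideal (MvPolynomial ι S) := RingHom.ker (MvPolynomial.constantCoeff (σ := ι) (R := S))
  have : N₀.IsPrime := RingHom.ker_isPrime _
  have hN₀ : N₀ ≤ N := by
    intro p hp
    have h : (Ideal.Quotient.mk N) = ((Ideal.Quotient.mk N).comp MvPolynomial.C).comp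
        MvPolynomial.constantCoeff := by
      refine MvPolynomial.ringHom_ext (fun a => by simp) fun i => ?_
      simp only [RingHom.comp_apply, MvPolynomial.constantCoeff_X, map_zero, Ideal.Quotient.eq_zero_iff_mem]
      show ν (MvPolynomial.X i) ∈ Qd
      rw [← MvPolynomial.map_X (algebraMap A S) i, hmapν]
      show MvPolynomial.X i ∈ Qd.comap (algebraMap (MvPolynomial ι A) D)
      rw [hQdA]
      show T (MvPolynomial.X i) ∈ Q
      rw [MvPolynomial.aeval_X]
      exact Ideal.mem_map_of_mem _ (htP i)
    rw [← Ideal.Quotient.eq_zero_iff_mem, h, RingHom.comp_apply, RingHom.mem_ker.1 hp, map_zero]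
  have : Qd.LiesOver N := ⟨rfl⟩
  obtain ⟨R, hRQ, hR, hRN⟩ := Ideal.exists_ideal_le_liesOver_of_le (p := N₀) (q := N) Qd hN₀
  -- the integral domain over the normalisation
  let W := D ⧸ R
  let ψ : S →+* W := (Ideal.Quotient.mk R).comp (ν.comp MvPolynomial.C)
  have hψi : ψ.IsIntegral := fun w => by
    obtain ⟨y, rfl⟩ := Ideal.Quotient.mk_surjective w
    let _ : Algebra S W := ψ.toAlgebra
    show IsIntegral S (Ideal.Quotient.mk R y)
    refine (Algebra.IsIntegral.isIntegral (R := MvPolynomial ι S) y).map_of_comp_eq
      MvPolynomial.constantCoeff (Ideal.Quotient.mk R) ?_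
    refine MvPolynomial.ringHom_ext (fun a => ?_) fun i => ?_
    · simp only [RingHom.comp_apply, MvPolynomial.constantCoeff_C]
      rfl
    · simp only [RingHom.comp_apply, MvPolynomial.constantCoeff_X, map_zero]
      exact ((Ideal.Quotient.eq_zero_iff_mem (I := R)).2
        (show algebraMap (MvPolynomial ι S) D (MvPolynomial.X i) ∈ R from
          hRN.over.le (MvPolynomial.constantCoeff_X S i))).symm
  have hψ : Function.Injective ψ := by
    refine (injective_iff_map_eq_zero _).2 fun a ha => ?_
    have h1 : MvPolynomial.C a ∈ N₀ := hRN.over.ge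
      (show algebraMap (MvPolynomial ι S) D (MvPolynomial.C a) ∈ R from
        (Ideal.Quotient.eq_zero_iff_mem (I := R)).1 ha)
    simpa [N₀] using h1
  obtain ⟨θ', hθψ, hlying⟩ := exists_embed (L := L) K ψ hψi hψ
  let Qw := Qd.map (Ideal.Quotient.mk R)
  have hQw : Qw.IsPrime := Ideal.map_isPrime_of_surjective Ideal.Quotient.mk_surjective
    (Ideal.mk_ker.le.trans hRQ)
  have hQwc : Qw.comap (Ideal.Quotient.mk R) = Qd := by
    rw [Ideal.comap_map_of_surjective _ Ideal.Quotient.mk_surjective, ← RingHom.ker_eq_comap_bot,
      Ideal.mk_ker]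
    exact sup_eq_left.2 hRQ
  obtain ⟨q', hq', hq'w⟩ := hlying Qw hQw
  have hq'q : q.comap (nu A K L) = q'.comap (nu A K L) := by
    have h1 : q'.comap (nu A K L) = N.comap (MvPolynomial.C : S →+* MvPolynomial ι S) := by
      rw [← hθψ, ← Ideal.comap_comap, hq'w]
      show Qw.comap ((Ideal.Quotient.mk R).comp (ν.comp MvPolynomial.C)) = _
      rw [← Ideal.comap_comap, hQwc, ← Ideal.comap_comap]
    rw [h1, hNC]
  let Φ : S' →+* integralClosure A L := θ'.comp ((Ideal.Quotient.mk R).comp jS)
  have hΦs : Φ s₀ ∉ q' := fun h => by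
    have h1 : jS s₀ ∈ Qd := hQwc.le (hq'w.le h)
    exact hs₀Q (hQdn.le h1)
  obtain ⟨σ, hσ⟩ := exists_conj_notMem K q q' hq'q (Φ s₀) hΦs
  refine ⟨_, hσ, ?_⟩
  let σ' := (σ.restrictScalars A).mapIntegralClosure
  let Ψ : S' →+* Localization.Away (σ' (Φ s₀)) :=
    (algebraMap _ (Localization.Away (σ' (Φ s₀)))).comp (σ'.toRingHom.comp Φ)
  have hu : IsUnit (Ψ s₀) :=
    IsLocalization.Away.algebraMap_isUnit (S := Localization.Away (σ' (Φ s₀))) (σ' (Φ s₀))
  let Ψ' : Localization.Away s₀ →+* Localization.Away (σ' (Φ s₀)) := IsLocalization.Away.lift s₀ hu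
  let eS : Localization.Away s₀ ≃+* Localization.Away (S'.val.toRingHom s₀) :=
    RingEquiv.ofBijective _ hbij
  let ρ : B →+* Localization.Away (σ' (Φ s₀)) :=
    (Ψ'.comp eS.symm.toRingHom).comp ((algebraMap C (Localization.Away (S'.val.toRingHom s₀))).comp
      π.toRingHom)
  refine ⟨{ ρ with commutes' := fun a => ?_ }⟩
  show Ψ' (eS.symm (algebraMap C _ (π (algebraMap A B a)))) = _
  rw [π.commutes]
  have he : eS.symm (algebraMap C _ (algebraMap A C a)) =
      algebraMap S' (Localization.Away s₀) (algebraMap (MvPolynomial ι A) S' (MvPolynomial.C a)) := by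
    rw [RingEquiv.symm_apply_eq]
    symm
    show Localization.awayMap S'.val.toRingHom s₀ _ = _
    rw [Localization.awayMap, IsLocalization.Away.map, IsLocalization.map_eq]
    exact congrArg (algebraMap C _) (T.commutes a)
  rw [he]
  show Ψ' _ = _
  rw [IsLocalization.Away.lift_eq, IsScalarTower.algebraMap_apply A (integralClosure A L)]
  show algebraMap _ _ (σ' (θ' (Ideal.Quotient.mk R (jS _)))) = _
  congr 1
  rw [show jS (algebraMap (MvPolynomial ι A) S' (MvPolynomial.C a)) =
    algebraMap (MvPolynomial ι A) D (MvPolynomial.C a) from congr($hjScomp _), ← hmapν,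
    MvPolynomial.map_C]
  rw [show θ' (Ideal.Quotient.mk R (ν (MvPolynomial.C (algebraMap A S a)))) =
    nu A K L (algebraMap A S a) from congr($hθψ _)]
  rw [show nu A K L (algebraMap A S a) = algebraMap A (integralClosure A L) a from
    (IsScalarTower.toAlgHom A K L).mapIntegralClosure.commutes a]
  exact σ'.commutes a

set_option maxHeartbeats 1600000 in
set_option synthInstance.maxHeartbeats 200000 in
/-- Quasi-sections over the absolute integral closure. -/
theorem exists_point {A : Type u} [CommRing A] [IsDomain A] [IsNoetherianRing A]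
    (K : Type u) [Field K] [Algebra A K] [IsFractionRing A K] {L : Type u} [Field L] [IsAlgClosed L]
    [Algebra K L] [Algebra.IsAlgebraic K L] [Algebra A L] [IsScalarTower A K L]
    (q : Ideal (integralClosure A L)) [q.IsPrime] :
    ∃ (A' : Subalgebra A K) (α : A' →+* integralClosure A L), Module.Finite A A' ∧
      (∀ a : A, α (algebraMap A A' a) = algebraMap A _ a) ∧
      ∀ (B : Type u) [CommRing B] [Algebra A' B] [Algebra.FiniteType A' B],
      (∀ x : Ideal B, x.IsPrime → x.under A' = q.comap α → ∀ p' : Ideal A', p'.IsPrime →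
        p' ≤ q.comap α → ∃ x' : Ideal B, x'.IsPrime ∧ x' ≤ x ∧ x'.under A' = p') →
      (∃ x : Ideal B, x.IsPrime ∧ x.under A' = q.comap α) →
      ∃ r : integralClosure A L, r ∉ q ∧ ∃ φ : B →+* Localization.Away r, ∀ a : A',
        φ (algebraMap A' B a) = algebraMap _ _ (α a) := by
  classical
  let S := integralClosure A K
  let n₀ := q.comap (nu A K L)
  let m := q.under A
  have hn₀m : n₀.under A = m := by
    rw [Ideal.under_def, Ideal.comap_comap]
    congr 1
    exact (IsScalarTower.toAlgHom A K L).mapIntegralClosure.comp_algebraMap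
  have hfin := finite_primes_normalisation K m
  have hsep : ∀ n : {n : Ideal S | n.IsPrime ∧ n.under A = m}, n.1 ≠ n₀ → ∃ x, x ∈ n₀ ∧ x ∉ n.1 := by
    rintro ⟨n, hn, hnm⟩ hne
    by_contra! hc
    have hle : n₀ ≤ n := hc
    rcases eq_or_lt_of_le hle with h | h
    · exact hne h.symm
    · have := Ideal.IsIntegral.comap_lt_comap (R := A) h
      exact this.ne (hn₀m.trans hnm.symm)
  choose x hx₀ hx using hsep
  have := hfin.to_subtype
  let F : Set K := Set.range fun n : {n : {n : Ideal S | n.IsPrime ∧ n.under A = m} // n.1 ≠ n₀} =>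
    (x n.1 n.2 : K)
  let A' := Algebra.adjoin A F
  have hA'fin : Module.Finite A A' := Module.Finite.iff_fg.2
    (fg_adjoin_of_finite (Set.finite_range _) (by rintro _ ⟨n, rfl⟩; exact (x n.1 n.2).2))
  have hA'S : ∀ a : A', IsIntegral A (a : K) := fun a =>
    (Algebra.IsIntegral.isIntegral (R := A) a).map A'.val
  let α : A' →+* integralClosure A L :=
    ((algebraMap K L).comp A'.val.toRingHom).codRestrict (integralClosure A L).toSubring fun a =>
      (hA'S a).map (IsScalarTower.toAlgHom A K L)
  refine ⟨A', α, hA'fin, fun a => Subtype.ext (IsScalarTower.algebraMap_apply A K L a).symm, ?_⟩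
  intro B _ _ _ hlift hne
  have : IsNoetherianRing A' := IsNoetherianRing.of_finite A A'
  have : IsFractionRing A' K := by
    refine IsFractionRing.of_field _ _ fun z => ?_
    obtain ⟨a, b, hb, rfl⟩ := IsFractionRing.div_surjective (A := A) z
    exact ⟨algebraMap A A' a, algebraMap A A' b, rfl⟩
  have : IsScalarTower A' K L := inferInstance
  have : IsScalarTower A A' L := inferInstance
  let j : integralClosure A' L →+* integralClosure A L :=
    { toFun := fun y => ⟨y.1, isIntegral_trans (R := A) y.1 y.2⟩
      map_one' := rfl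
      map_zero' := rfl
      map_add' := fun _ _ => rfl
      map_mul' := fun _ _ => rfl }
  let q₁ := q.comap j
  have hq₁A : q₁.under A' = q.comap α := rfl
  have huniq₁ : ∀ n : Ideal (integralClosure A' K), n.IsPrime → n.under A' = q₁.under A' →
      n = q₁.comap (nu A' K L) := by
    intro n hn hnm
    let k : S →+* integralClosure A' K :=
      { toFun := fun y => ⟨y.1, y.2.tower_top⟩
        map_one' := rfl
        map_zero' := rfl
        map_add' := fun _ _ => rfl
        map_mul' := fun _ _ => rfl }
    have hk : Function.Surjective k := fun y => ⟨⟨y.1, isIntegral_trans (R := A) y.1 y.2⟩, rfl⟩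
    refine Ideal.comap_injective_of_surjective k hk ?_
    have h₀ : (q₁.comap (nu A' K L)).comap k = n₀ := rfl
    rw [h₀]
    by_contra hne'
    have hnA : (n.comap k).under A = m := by
      have h1 : (n.under A').comap (algebraMap A A') = (q₁.under A').comap (algebraMap A A') := by rw [hnm]
      refine h1.trans ?_
      rw [hq₁A, Ideal.comap_comap]
      exact congrArg (fun φ : A →+* integralClosure A L => q.comap φ)
        (RingHom.ext fun c => Subtype.ext (IsScalarTower.algebraMap_apply A K L c).symm)
    let nn : {n : Ideal S | n.IsPrime ∧ n.under A = m} := ⟨n.comap k, inferInstance, hnA⟩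
    have hxF : ((x nn hne' : S) : K) ∈ A' := Algebra.subset_adjoin ⟨⟨nn, hne'⟩, rfl⟩
    let a : A' := ⟨_, hxF⟩
    have h1 : a ∈ q₁.under A' := hx₀ nn hne'
    rw [← hnm] at h1
    exact hx nn hne' h1
  obtain ⟨r, hr, ⟨φ⟩⟩ := exists_point_of_unique K q₁ huniq₁ B
    (by rw [hq₁A]; exact hlift) (by rw [hq₁A]; exact hne)
  let r' := j r
  let η : integralClosure A' L →+* Localization.Away r' := (algebraMap _ _).comp j
  refine ⟨r', hr, (IsLocalization.Away.lift r (g := η) (IsLocalization.Away.algebraMap_isUnit r')).comp
    φ.toRingHom, fun a => ?_⟩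
  rw [RingHom.comp_apply, AlgHom.toRingHom_eq_coe, RingHom.coe_coe, φ.commutes,
    IsScalarTower.algebraMap_apply A' (integralClosure A' L) (Localization.Away r),
    IsLocalization.Away.lift_eq]
  exact congrArg _ (Subtype.ext rfl)

end Groth.Agent.GIT36.Desc
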