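import Groth.Agent.GIT36.Desc.Affine
import Groth.Agent.H98EqInt.Quot
import Groth.Prelude.Def_W4bk4git07Quot

/-!
A geometric quotient by a proper action of an affine group is an affine morphism.
-/

set_option autoImplicit false

universe u

open CategoryTheory MonoidalCategory CartesianMonoidalCategory AlgebraicGeometry

namespace Groth.Agent.GIT36.Desc

theorem isAffineHom_of_isGeomQuot {k : Type u} [Field k] {G X Y : Over (Spec (CommRingCat.of k))}
    [GrpObj G] [IsAffine G.left] [LocallyOfFiniteType G.hom] [LocallyOfFiniteType X.hom]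
    [LocallyOfFiniteType Y.hom] (a : AlgGrp.Action G X) (hp : IsProper (GIT.psi a (𝟙 X)).left)
    (φ : X ⟶ Y) (h : GIT.IsGeomQuot a φ) : IsAffineHom φ.left := by
  let Φ := GIT.PsiY a φ h.inv
  let j : Limits.pullback φ.left φ.left ⟶ (X ⊗ X).left :=
    Limits.pullback.map φ.left φ.left X.hom X.hom (𝟙 _) (𝟙 _) Y.hom
      (by rw [Category.id_comp, Over.w]) (by rw [Category.id_comp, Over.w])
  have hj₁ : j ≫ Limits.pullback.fst X.hom X.hom = Limits.pullback.fst φ.left φ.left :=
    (Limits.pullback.lift_fst _ _ _).trans (Category.comp_id _)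
  have hj₂ : j ≫ Limits.pullback.snd X.hom X.hom = Limits.pullback.snd φ.left φ.left :=
    (Limits.pullback.lift_snd _ _ _).trans (Category.comp_id _)
  have hj : Φ ≫ j = (GIT.psi a (𝟙 X)).left := by
    apply Limits.pullback.hom_ext
    · show (Φ ≫ j) ≫ Limits.pullback.fst X.hom X.hom = (GIT.psi a (𝟙 X)).left ≫ (fst X X).left
      rw [← Over.comp_left, GIT.psi, lift_fst, whiskerLeft_id, Category.id_comp, Category.assoc, hj₁]
      exact Limits.pullback.lift_fst _ _ _
    · show (Φ ≫ j) ≫ Limits.pullback.snd X.hom X.hom = (GIT.psi a (𝟙 X)).left ≫ (snd X X).left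
      rw [← Over.comp_left, GIT.psi, lift_snd, Category.assoc, hj₂]
      exact Limits.pullback.lift_snd _ _ _
  have : UniversallyClosed (Φ ≫ j) := by rw [hj]; infer_instance
  have : IsSeparated j := by
    have : Mono j := by
      refine ⟨fun {Z} u v huv => ?_⟩
      apply Limits.pullback.hom_ext
      · have := congrArg (fun m => m ≫ Limits.pullback.fst X.hom X.hom) huv
        simpa only [Category.assoc, hj₁] using this
      · have := congrArg (fun m => m ≫ Limits.pullback.snd X.hom X.hom) huv
        simpa only [Category.assoc, hj₂] using this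
    infer_instance
  have hΦ : UniversallyClosed Φ :=
    MorphismProperty.of_postcomp @UniversallyClosed (W' := @IsSeparated) Φ j inferInstance
      (inferInstanceAs (UniversallyClosed (Φ ≫ j)))
  have : Surjective Φ := ⟨h.orbit⟩
  let p₂ := Limits.pullback.snd φ.left φ.left
  have hp₂ : Φ ≫ p₂ = (snd G X).left := Limits.pullback.lift_snd _ _ _
  have : IsAffineHom (snd G X).left := by
    have : IsAffineHom G.hom := isAffineHom_of_isAffine _
    exact MorphismProperty.pullback_snd (P := @IsAffineHom) G.hom X.hom this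
  have : IsAffineHom p₂ := by
    refine ⟨fun V hV => ?_⟩
    have hsrc : IsAffineOpen (Φ ⁻¹ᵁ (p₂ ⁻¹ᵁ V)) := by
      rw [← Scheme.Hom.comp_preimage, hp₂]
      exact hV.preimage _
    have : IsAffine (Φ ⁻¹ᵁ (p₂ ⁻¹ᵁ V)).toScheme := hsrc
    have : UniversallyClosed (Φ ∣_ (p₂ ⁻¹ᵁ V)) := IsZariskiLocalAtTarget.restrict hΦ _
    have : Surjective (Φ ∣_ (p₂ ⁻¹ᵁ V)) := IsZariskiLocalAtTarget.restrict ‹Surjective Φ› _
    exact S0593.result _ _ (Φ ∣_ (p₂ ⁻¹ᵁ V))
  have : UniversallyOpen φ.left := H98EqInt.universallyOpen_of_isGeomQuot a φ h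
  have : Surjective φ.left := ⟨h.surj⟩
  have : LocallyOfFiniteType (φ.left ≫ Y.hom) := by rw [Over.w]; infer_instance
  have : LocallyOfFiniteType φ.left := locallyOfFiniteType_of_comp φ.left Y.hom
  have : IsLocallyNoetherian Y.left := LocallyOfFiniteType.isLocallyNoetherian Y.hom
  exact isAffineHom_of_baseChange φ.left φ.left

end Groth.Agent.GIT36.Desc
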